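import Cfsg.Agent.H70.FStar
import Cfsg.Agent.H70.WeakCl
import Cfsg.Agent.H70.MinOver

/-! Quasisimple modulo a subgroup; strongly `p`-irreducible groups; misc. -/

set_option autoImplicit false
open Cfsg Subgroup Cfsg.Agent.H92
open scoped commutatorElement

namespace Cfsg.Agent.H70

universe u
variable {G : Type u} [Group G] {p : ℕ}

theorem map_inf_comap' {G' : Type*} [Group G'] (f : G →* G') (K : Subgroup G) (C : Subgroup G') :
    (K ⊓ C.comap f).map f = K.map f ⊓ C := by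
  ext y
  constructor
  · rintro ⟨x, hx, rfl⟩; exact ⟨⟨x, hx.1, rfl⟩, hx.2⟩
  · rintro ⟨⟨x, hx, rfl⟩, h⟩; exact ⟨x, ⟨hx, h⟩, rfl⟩

theorem le_sup_inf_ker_of_map_le {G' : Type*} [Group G'] {f : G →* G'} {K N : Subgroup G}
    (hN : N ≤ K) (h : K.map f ≤ N.map f) : K ≤ N ⊔ (K ⊓ f.ker) := by
  rw [map_le_iff_le_comap, comap_map_eq] at h
  rw [inf_comm, ← sup_inf_of_norm norm_of_normal hN]
  exact le_inf h le_rfl

/-- `K / K ∩ C` is quasisimple. -/
structure QSmod (K C : Subgroup G) : Prop where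
  nle : ¬ K ≤ C
  perf : K ≤ ⁅K, K⁆ ⊔ (K ⊓ C)
  normal : ∀ N, N ≤ K → K ≤ normalizer (N : Set G) → K ≤ N ⊔ (K ⊓ C) ∨ ⁅N, K⁆ ≤ C

theorem qs_map_iff {G' : Type*} [Group G'] (f : G →* G') (K : Subgroup G) :
    H44.QS (K.map f) ↔ QSmod K f.ker := by
  constructor
  · intro h
    refine ⟨fun h1 => h.ne_bot ((Subgroup.map_eq_bot_iff K).2 h1), le_sup_inf_ker_of_map_le
      (commutator_le_left_of_norm le_normalizer) (by rw [Subgroup.map_commutator, h.perfect]),
      fun N hN hn => (h.normal _ (map_mono hN) (norm_map f hn)).imp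
        (fun e => le_sup_inf_ker_of_map_le hN e.ge) fun e => ?_⟩
    rw [← Subgroup.map_eq_bot_iff, Subgroup.map_commutator, comm_eq_bot_iff]
    exact e
  · intro h
    have key : ∀ N, K ≤ N ⊔ (K ⊓ f.ker) → K.map f ≤ N.map f := fun N h1 => by
      refine (map_mono h1).trans ?_
      rw [Subgroup.map_sup, (Subgroup.map_eq_bot_iff _).2 inf_le_right, sup_bot_eq]
    refine ⟨le_antisymm (commutator_le_left_of_norm le_normalizer)
      (by rw [← Subgroup.map_commutator]; exact key _ h.perf),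
      fun e => h.nle ((Subgroup.map_eq_bot_iff K).1 e), fun N hN hn => ?_⟩
    have e : (K ⊓ N.comap f).map f = N := by rw [map_inf_comap', inf_eq_right.2 hN]
    refine (h.normal (K ⊓ N.comap f) inf_le_left (norm_inf le_normalizer (norm_comap f hn))).imp
      (fun h1 => le_antisymm hN (e ▸ key _ h1)) fun h1 => ?_
    rw [← comm_eq_bot_iff, ← e, ← Subgroup.map_commutator, Subgroup.map_eq_bot_iff]
    exact h1

theorem qsmod_map_iff {G' : Type*} [Group G'] (f : G →* G') (hf : Function.Injective f)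
    (K : Subgroup G) (C : Subgroup G') : QSmod (K.map f) C ↔ QSmod K (C.comap f) := by
  have key : ∀ N, K.map f ≤ N.map f ⊔ (K.map f ⊓ C) ↔ K ≤ N ⊔ (K ⊓ C.comap f) := fun N => by
    rw [← map_inf_comap', ← Subgroup.map_sup, map_le_map_iff_of_injective hf]
  constructor
  · intro h
    refine ⟨fun h1 => h.nle (map_le_iff_le_comap.2 h1),
      (key _).1 (by rw [Subgroup.map_commutator]; exact h.perf), fun N hN hn =>
      (h.normal _ (map_mono hN) (norm_map f hn)).imp (key N).1 fun h1 => ?_⟩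
    rwa [← Subgroup.map_commutator, map_le_iff_le_comap] at h1
  · intro h
    refine ⟨fun h1 => h.nle (map_le_iff_le_comap.1 h1),
      by rw [← Subgroup.map_commutator]; exact (key _).2 h.perf, fun N hN hn => ?_⟩
    have e : (N.comap f).map f = N := map_comap_eq_self (hN.trans (map_le_range f K))
    have h1 : N.comap f ≤ K := by
      rw [← comap_map_eq_self_of_injective hf K]; exact comap_mono hN
    refine (h.normal _ h1 (norm_comap f hn)).imp (fun h2 => e ▸ (key _).2 h2) fun h2 => ?_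
    rw [← e, ← Subgroup.map_commutator, map_le_iff_le_comap]
    exact h2

theorem QSmod.isQuasisimple {K C : Subgroup G} (h : QSmod K C) (N : Subgroup K) [N.Normal]
    (e : N = C.subgroupOf K) : IsQuasisimple (K ⧸ N) := by
  rw [← H44.qs_top_iff, ← map_top_of_surjective _ (QuotientGroup.mk'_surjective N), qs_map_iff,
    QuotientGroup.ker_mk', e, subgroupOf, ← qsmod_map_iff _ K.subtype_injective, map_subtype_top]
  exact h

theorem comm_eq_bot_of_central {R Y N : Subgroup G} (hO : pCoreOf p R = ⊥) (hY : IsPGroup p Y)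
    (hYR : Y ≤ R) (h : ⁅Y, N⁆ ≤ R ⊓ centralizer (R : Set G)) : ⁅Y, N⁆ = ⊥ := by
  refine le_bot_iff.1 (commutator_le.2 fun y hy x hx => ?_)
  have h1 := h (commutator_mem_commutator hy hx)
  obtain ⟨k, hk⟩ := isPGroup_iff_mem.1 hY y hy
  have h2 : Commute ⁅y, x⁆⁻¹ y := (Commute.symm (mem_centralizer_iff.1 h1.2 y (hYR hy))).inv_left
  have h3 : (⁅y, x⁆⁻¹ * y) ^ p ^ k = 1 := by
    rw [show ⁅y, x⁆⁻¹ * y = x * y * x⁻¹ by rw [commutatorElement_def]; group, conj_pow, hk]
    group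
  rw [h2.mul_pow, hk, mul_one, inv_pow, inv_eq_one] at h3
  exact hO.le (le_pCoreOf (zpowers_le.2 h1.1) (norm_of_cent (cent_comm.1 (zpowers_le.2 h1.2)))
    (isPGroup_zpowers_iff.2 ⟨k, h3⟩) (mem_zpowers _))

/-- Relative strong `p`-irreducibility. -/
structure SIrr (p : ℕ) (E : Subgroup G) : Prop where
  ncl : ¬ IsPClosed p E
  res : ∀ N, N ≤ E → E ≤ normalizer (N : Set G) → ¬ ⁅N, E⁆ ≤ pCoreOf p E → pResidualOf p E ≤ N

theorem sIrr_of {E : Subgroup G} (h : IsStronglyPIrreducible p E) : SIrr p E := by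
  refine ⟨h.1, fun N hN hn hc => map_subtype_le_iff.2 (h.2 _
    ((normal_subgroupOf_iff_le_normalizer hN).2 hn) fun h' => hc ?_)⟩
  have := map_mono (f := E.subtype) h'
  rwa [Subgroup.map_commutator, map_subtype_subgroupOf hN, map_subtype_top] at this

theorem SIrr.pIrr {E : Subgroup G} (h : SIrr p E) : PIrr p E := by
  refine ⟨h.ncl, fun N hN hn hc => h.res N hN hn fun h' => hc ?_⟩
  obtain ⟨T, hT⟩ := exists_sylIn p N
  refine isPClosed_of_sylIn_norm hT (norm_of_commutator_le (le_trans ?_ (pCoreOf_le_sylIn hT)))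
  rw [pCoreOf_eq_inf_of_norm hN hn]
  exact le_inf ((commutator_mono hT.le hN).trans h')
    ((commutator_mono hT.le le_rfl).trans (commutator_le_left_of_norm le_normalizer))

theorem MinOver.unique {Y L A B : Subgroup G} (h : MinOver Y L A) (h' : MinOver Y L B) : A = B :=
  le_antisymm (h'.uniq A h.le h.lt) (h.uniq B h'.le h'.lt)

variable [Finite G] [hp : Fact p.Prime]

theorem SIrr.map {G' : Type*} [Group G'] (f : G →* G') (hk : IsPGroup p f.ker) {E : Subgroup G}
    (h : SIrr p E) : SIrr p (E.map f) := by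
  refine ⟨fun h' => h.ncl ((isPClosed_map_iff f hk E).1 h'), fun N hN hn hc => ?_⟩
  have e : (E ⊓ N.comap f).map f = N := by rw [map_inf_comap', inf_eq_right.2 hN]
  rw [← map_pRes, ← e]
  refine map_mono (h.res _ inf_le_left (norm_inf le_normalizer (norm_comap f hn)) fun h' => hc ?_)
  rw [← e, ← Subgroup.map_commutator]
  exact (map_mono h').trans (map_pCoreOf_le f E)

theorem MinOver.sup_of_isPGroup {Y L L₀ P : Subgroup G} (h : MinOver Y L L₀) (hY : IsPGroup p Y)
    (hP : IsPGroup p P) (hn : L ≤ normalizer (P : Set G)) :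
    MinOver (Y ⊔ P) (L ⊔ P) (L₀ ⊔ P) := by
  refine ⟨sup_le_sup_right h.le _, lt_of_le_of_ne (sup_le_sup_right h.lt.le _) fun e => ?_,
    le_antisymm (ncl_le_of_le (sup_le_sup_right h.le' _)) (sup_le
      (h.gen.ge.trans (ncl_mono le_sup_left le_sup_left)) (le_sup_right.trans (le_ncl _ _))),
    fun X h1 h2 => ?_⟩
  · refine h.lt.not_ge (le_trans (le_inf (le_sup_left.trans e.ge) le_rfl) ?_)
    rw [sup_inf_of_norm (h.lt.le.trans hn) h.lt.le]
    exact sup_le le_rfl ((le_pCoreOf inf_le_right (norm_inf hn le_normalizer)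
      hP.to_inf_left).trans (h.pCoreOf_le hY))
  · have e : X = P ⊔ (L ⊓ X) := by
      rw [← sup_inf_of_norm' hn (le_sup_right.trans h1), sup_comm P, inf_eq_right.2 h2.le]
    rw [e]
    refine sup_le le_sup_right (le_trans (h.uniq _ (le_inf h.le' (le_sup_left.trans h1))
      (inf_lt_left.2 fun h3 => h2.not_ge (sup_le h3 (le_sup_right.trans h1)))) le_sup_left)

theorem MinOver.exists_of_sylIn {Y L L₀ T : Subgroup G} (h : MinOver Y L L₀) (hY : IsPGroup p Y)
    (hT : SylIn p T L) : ∃ L₁, MinOver T L L₁ := by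
  obtain ⟨T', h1, h2, h3⟩ := h.exists_sylIn hY
  obtain ⟨g, hg, rfl⟩ := sylIn_exists_cj_eq h1 hT
  exact ⟨_, (h.mono h2 h3).cj_of_mem hg⟩

theorem WC.pRes_wcl {Q K : Subgroup G} (h : WC p Q) (hQ : IsPGroup p Q) (hQK : Q ≤ K) :
    ⁅pResidualOf p (weakClosure Q K), Q⁆ = pResidualOf p (weakClosure Q K) ∧
      weakClosure Q K = pResidualOf p (weakClosure Q K) ⊔ Q := by
  obtain ⟨T, hT, h1⟩ := exists_sylIn_ge (le_wcl hQK) hQ
  have h0 : ⁅pResidualOf p (weakClosure Q K), Q⁆ ≤ pResidualOf p (weakClosure Q K) :=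
    commutator_le_left_of_norm ((le_wcl hQK).trans (le_norm_pRes _))
  have h2 := h.wcl_wcl hQ hQK
  rw [ncl_eq_of_factor (pRes_le (p := p) _) (h.le_norm hT.pgroup h1) fun g hg =>
    (mem_sup_of_norm' (hT.le.trans (le_norm_pRes _))).1 ((pRes_sup_sylIn hT).ge hg),
    ncl_eq_sup_comm, sup_comm, commutator_comm] at h2
  exact ⟨le_antisymm h0 ((pRes_mono h2.ge).trans
    (pRes_sup_le_of_isPGroup hQ (normalizer_commutator_ge_right _ _))),
    le_antisymm (h2.ge.trans (sup_le_sup_right h0 _)) (sup_le (pRes_le _) (le_wcl hQK))⟩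

end Cfsg.Agent.H70
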